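import Cfsg.Agent.H30.IMFi24
import Cfsg.Agent.H841.Phi
import Cfsg.Agent.H819.CubeFi24
import Cfsg.Agent.H282.SK.Def

/-!
# S3010 (Sidki pairs): the row `Fi24'` (helper955)

`G = K V` with `K ≅ Fi24'` embeds into `Fi24`; `V ∩ K ≠ 1`, and both classes of involutions of `Fi24'` are dead (also
in `G = Fi24`):

* the class of `z0` inverts an element `X` of order 29 with `|C_{Fi24}(X)| = 29`;
* the product of two commuting transpositions inverts `y0` of order 5, `C_{Fi24}(y0) = ⟨y0⟩ × S₉`, and its centralizer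
  in `C(y0)` is the `S₉`.
-/

set_option autoImplicit false
set_option maxRecDepth 10000
set_option linter.style.haveILetI false

namespace Cfsg.Agent.H955.SK.Fi24

open Cfsg Cfsg.Agent.R08 Cfsg.Agent.R08.FiTwentyFour
open Subgroup
open Cfsg.Agent.H282.SK
open Cfsg.Spor (Fi24)

universe u v

local notation "L" => Cfsg.Agent.R08.FiTwentyFour.L

/-! ### Transport along an embedding -/

section Abs

variable {G : Type u} [Group G] [Finite G] {V K : Subgroup G} {F : Type v} [Group F] (ρ : G →* F)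
  (hρ : Function.Injective ρ)

include hρ in
theorem t0_of (h : Cx V K) {v x : G} (hv : v ∈ V) (hx : Odd (orderOf (ρ x)))
    (hinv : ρ v * ρ x * (ρ v)⁻¹ = (ρ x)⁻¹) : ∃ w ∈ V, w ≠ 1 ∧ Commute (ρ w) (ρ x) := by
  rw [orderOf_injective ρ hρ] at hx
  have hi : v * x * v⁻¹ = x⁻¹ := hρ (by rw [map_mul, map_mul, map_inv, hinv, map_inv])
  obtain ⟨w, hw, hw1, hc⟩ := h.t0 hv hx hi
  exact ⟨w, hw, hw1, hc.map ρ⟩

include hρ in
theorem t1_of (h : Cx V K) {v x : G} (hv : v ∈ V) (hv1 : v ≠ 1) (hx : Odd (orderOf (ρ x)))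
    (hinv : ρ v * ρ x * (ρ v)⁻¹ = (ρ x)⁻¹) :
    ∃ w ∈ V, w ≠ 1 ∧ Commute (ρ w) (ρ x) ∧
      ∀ y : G, Odd (orderOf (ρ y)) → Commute (ρ v) (ρ y) → Commute (ρ x) (ρ y) →
        ρ w * ρ y * (ρ w)⁻¹ = (ρ y)⁻¹ → ρ y = 1 := by
  rw [orderOf_injective ρ hρ] at hx
  have hi : v * x * v⁻¹ = x⁻¹ := hρ (by rw [map_mul, map_mul, map_inv, hinv, map_inv])
  obtain ⟨w, hw, hw1, hc, hO⟩ := h.t1 hv hv1 hx hi
  refine ⟨w, hw, hw1, hc.map ρ, ?_⟩
  intro y hy h1 h2 h3
  rw [orderOf_injective ρ hρ] at hy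
  have c : ∀ {a b : G}, Commute (ρ a) (ρ b) → b * a = a * b := fun {a b} hab => hρ (by rw [map_mul, map_mul, hab.eq])
  have hyi : w * y * w⁻¹ = y⁻¹ := hρ (by rw [map_mul, map_mul, map_inv, h3, map_inv])
  rw [eq_one_of_inv hO (mem_inf.2 ⟨mem_centralizer_singleton_iff.2 (c h1),
    mem_centralizer_singleton_iff.2 (c h2)⟩) hy hyi, map_one]

end Abs

/-! ### The element of order 29 -/

theorem exists_x : ∃ x : Fi24, ∃ t : Spor.Fi24', x ∈ commutator Fi24 ∧ orderOf x = 29 ∧
    Nat.card (centralizer (zpowers x : Set Fi24)) = 29 ∧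
    t * t = 1 ∧ t ≠ 1 ∧ (t : Fi24) * x * (t : Fi24)⁻¹ = x⁻¹ := by
  have hfin : Finite Fi24 := finite_Fi24
  set X : Fi24 := Cfsg.Agent.H843.D29.D.x with hX
  set w : Fi24 := Cfsg.Agent.Fischer.Fi24Rep.word Cfsg.Agent.H843.D29.w12 with hw
  have ho : orderOf X = 29 := Cfsg.Agent.H843.D29.order
  have h29 : X ^ 29 = 1 := by rw [← ho]; exact pow_orderOf_eq_one X
  have hXw : w * X * w⁻¹ = X ^ 12 := Cfsg.Agent.H843.Fi24N.conj_of Cfsg.Agent.H843.D29.h12
  have hC : Nat.card (centralizer (zpowers X : Set Fi24)) = 29 := Cfsg.Agent.H843.D29.main.2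
  have hXK : X ∈ commutator Fi24 := Cfsg.Agent.H843.Fi24N.mem_commutator (by rw [ho]; decide)
  have hwK : w * w ∈ commutator Fi24 := by
    have h2 : w ^ (commutator Fi24).index ∈ commutator Fi24 := Subgroup.pow_index_mem _ _
    rwa [index_commutator, pow_two] at h2
  have hinv : (w * w) * X * (w * w)⁻¹ = X⁻¹ := by
    calc (w * w) * X * (w * w)⁻¹ = w * (w * X * w⁻¹) * w⁻¹ := by group
      _ = (w * X * w⁻¹) ^ 12 := by rw [conj_pow, hXw]
      _ = X ^ 144 := by rw [hXw, ← pow_mul]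
      _ = (X ^ 29) ^ 5 * X⁻¹ := by group
      _ = X⁻¹ := by rw [h29]; group
  have hcent : centralizer (zpowers X : Set Fi24) = zpowers X := by
    symm
    apply eq_of_le_of_card_ge
    · rw [zpowers_le, mem_centralizer_iff]
      rintro _ ⟨k, rfl⟩
      exact ((Commute.refl X).zpow_left k).eq
    · rw [hC, Nat.card_zpowers, ho]
  have hc1 : ∀ y : Fi24, y * X = X * y → y ∈ zpowers X := by
    intro y hy
    rw [← hcent, mem_centralizer_iff]
    rintro _ ⟨k, rfl⟩
    exact ((show Commute X y from hy.symm).zpow_left k).eq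
  have h4 : w * w * (w * w) = 1 := by
    have h5 : w * w * (w * w) ∈ zpowers X := by
      apply hc1
      have h6 : (w * w) * ((w * w) * X * (w * w)⁻¹) * (w * w)⁻¹ = X := by
        rw [hinv]
        calc w * w * X⁻¹ * (w * w)⁻¹ = ((w * w) * X * (w * w)⁻¹)⁻¹ := (conj_inv).symm
          _ = X := by rw [hinv, inv_inv]
      calc w * w * (w * w) * X = ((w * w) * ((w * w) * X * (w * w)⁻¹) * (w * w)⁻¹) * (w * w * (w * w)) := by group
        _ = X * (w * w * (w * w)) := by rw [h6]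
    obtain ⟨k, hk⟩ := mem_zpowers_iff.1 h5
    have h7 : w * (X ^ k) * w⁻¹ = X ^ k := by rw [hk]; group
    rw [← conj_zpow, hXw] at h7
    have h8 : X ^ (11 * k) = 1 := by
      have h9 : X ^ (12 * k) = X ^ k := by
        conv_rhs => rw [← h7]
        rw [← zpow_natCast X 12, ← zpow_mul]
        rfl
      calc X ^ (11 * k) = X ^ (12 * k) * (X ^ k)⁻¹ := by rw [← zpow_neg, ← zpow_add]; congr 1; ring
        _ = 1 := by rw [h9, mul_inv_cancel]
    rw [← hk]
    have h10 : ((29 : ℕ) : ℤ) ∣ 11 * k := by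
      rw [← ho]; exact orderOf_dvd_iff_zpow_eq_one.2 h8
    have h11 : ((29 : ℕ) : ℤ) ∣ k := by
      have : IsCoprime ((29 : ℕ) : ℤ) 11 := by
        rw [Int.isCoprime_iff_gcd_eq_one]; norm_num
      exact this.dvd_of_dvd_mul_left h10
    rw [← ho] at h11
    exact orderOf_dvd_iff_zpow_eq_one.1 h11
  refine ⟨X, ⟨w * w, hwK⟩, hXK, ho, hC, Subtype.ext h4, ?_, hinv⟩
  intro h
  have h1 : w * w = 1 := congrArg Subtype.val h
  rw [h1, one_mul, inv_one, mul_one] at hinv
  have h2 : X ^ 2 = 1 := by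
    rw [pow_two]
    nth_rewrite 2 [hinv]
    exact mul_inv_cancel X
  have h3 := orderOf_dvd_of_pow_eq_one h2
  rw [ho] at h3
  norm_num at h3

/-- every conjugate of `z0` inverts an element of order 29 with a centralizer of order 29 -/
theorem z0_inverts {t : Spor.Fi24'} (ht : ∃ g : Spor.Fi24', t = g * CTwoTab.FiTF.z0 * g⁻¹) :
    ∃ X ∈ commutator Fi24, Odd (orderOf X) ∧ (t : Fi24) * X * (t : Fi24)⁻¹ = X⁻¹ ∧
      ∀ w : Fi24, w * w = 1 → Commute w X → w = 1 := by
  have hfin : Finite Fi24 := finite_Fi24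
  obtain ⟨x, s, hxK, ho, hC, hss, hs1, hinv⟩ := exists_x
  obtain ⟨g', hg'⟩ := Cfsg.Agent.H30.IMFi24.conj_z0 (x := ⟨x, hxK⟩) (t := s) (by rw [Subgroup.orderOf_mk, ho]) hss hs1
    (Subtype.ext hinv)
  obtain ⟨g, hg⟩ := ht
  have hts : t = (g * g'⁻¹) * s * (g * g'⁻¹)⁻¹ := by rw [hg, hg']; group
  set c : Fi24 := ((g * g'⁻¹ : Spor.Fi24') : Fi24) with hc
  have htc : (t : Fi24) = c * s * c⁻¹ := by rw [hts]; rfl
  refine ⟨c * x * c⁻¹, (inferInstance : (commutator Fi24).Normal).conj_mem x hxK c, ?_, ?_, ?_⟩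
  · have h1 : orderOf (c * x * c⁻¹) = orderOf x := by
      rw [← MulAut.conj_apply]
      exact orderOf_injective (MulAut.conj c).toMonoidHom (MulAut.conj c).injective x
    rw [h1, ho]; decide
  · rw [htc]
    calc c * s * c⁻¹ * (c * x * c⁻¹) * (c * s * c⁻¹)⁻¹ = c * (s * x * (s : Fi24)⁻¹) * c⁻¹ := by group
      _ = (c * x * c⁻¹)⁻¹ := by rw [hinv]; group
  · intro w hww hwc
    have h1 : c⁻¹ * w * c ∈ centralizer (zpowers x : Set Fi24) := by
      rw [mem_centralizer_iff]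
      rintro _ ⟨k, rfl⟩
      have h2 : Commute (c⁻¹ * w * c) x := by
        show c⁻¹ * w * c * x = x * (c⁻¹ * w * c)
        have h3 := hwc.eq
        calc c⁻¹ * w * c * x = c⁻¹ * (w * (c * x * c⁻¹)) * c := by group
          _ = c⁻¹ * (c * x * c⁻¹ * w) * c := by rw [h3]
          _ = x * (c⁻¹ * w * c) := by group
      exact (h2.symm.zpow_left k).eq
    have h2 : orderOf (⟨_, h1⟩ : ↥(centralizer (zpowers x : Set Fi24))) ∣ 29 := by
      rw [← hC]; exact orderOf_dvd_natCard _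
    rw [Subgroup.orderOf_mk] at h2
    have h3 : orderOf (c⁻¹ * w * c) ∣ 2 := by
      apply orderOf_dvd_of_pow_eq_one
      calc (c⁻¹ * w * c) ^ 2 = c⁻¹ * (w * w) * c := by rw [pow_two]; group
        _ = 1 := by rw [hww]; group
    have h4 : orderOf (c⁻¹ * w * c) = 1 := by
      have := Nat.dvd_gcd h2 h3
      simpa using this
    rw [orderOf_eq_one_iff] at h4
    calc w = c * (c⁻¹ * w * c) * c⁻¹ := by group
      _ = 1 := by rw [h4]; group

/-! ### The element of order 5 -/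

section Five

open Cfsg.Agent.H841.Five Cfsg.Agent.LThreeFi24.SNine Cfsg.Agent.LThreeFi24.FiveConj
open Cfsg.Agent.Fischer.Fi24Class (gen gen_sq gen_rel)
open Cfsg.Spor.Fi24 (Gen edges)
open Cfsg.Spor (coxLabel)
open Equiv

theorem gcomm {x y : Gen} (h : coxLabel edges x y = 2) : Commute (gen x) (gen y) :=
  Cfsg.Agent.Fischer.Fi24Class.gen_comm x y h

theorem gbraid {x y : Gen} (h : coxLabel edges x y = 3) : gen x * gen y * gen x = gen y * gen x * gen y := by
  have h1 := gen_rel x y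
  rw [h] at h1
  have ix : (gen x)⁻¹ = gen x := inv_eq_of_mul_eq_one_left (gen_sq x)
  have iy : (gen y)⁻¹ = gen y := inv_eq_of_mul_eq_one_left (gen_sq y)
  have h2 : gen x * gen y * gen x * (gen y * gen x * gen y) = 1 := by
    rw [← h1]
    simp only [pow_succ, pow_zero, one_mul, mul_assoc]
  rw [eq_inv_of_mul_eq_one_left h2, mul_inv_rev, mul_inv_rev, ix, iy, mul_assoc]

/-- the second transposition -/
noncomputable def b0 : Fi24 := gen .a * gen .b * gen .a

theorem b0_mem : b0 ∈ L := by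
  have h1 : gen .a * gen .b * (gen .a)⁻¹ ∈ L := FiTwentyFour.conj (gen_mem_L .b) (gen .a)
  rwa [inv_eq_of_mul_eq_one_left (gen_sq Gen.a)] at h1

theorem l_comm_b0 : Commute (gen .l) b0 :=
  ((gcomm (by decide)).mul_right (gcomm (by decide))).mul_right (gcomm (by decide))

/-- `v₀ = l (a b a)` inverts `y₀ = l k a b` -/
theorem v0_inv : (gen .l * b0) * y0 * (gen .l * b0)⁻¹ = y0⁻¹ := by
  have hy : y0 = gen .l * gen .k * gen .a * gen .b := by
    show Cfsg.Agent.Fischer.Fi24Rep.word [.l, .k, .a, .b] = _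
    simp only [Cfsg.Agent.Fischer.Fi24Rep.word, List.map_cons, List.map_nil, List.prod_cons, List.prod_nil, mul_one,
      mul_assoc]
    rfl
  have ll := gen_sq Gen.l
  have kk := gen_sq Gen.k
  have aa := gen_sq Gen.a
  have bb := gen_sq Gen.b
  have il : (gen Gen.l)⁻¹ = gen .l := inv_eq_of_mul_eq_one_left ll
  have ik : (gen Gen.k)⁻¹ = gen .k := inv_eq_of_mul_eq_one_left kk
  have ia : (gen Gen.a)⁻¹ = gen .a := inv_eq_of_mul_eq_one_left aa
  have ib : (gen Gen.b)⁻¹ = gen .b := inv_eq_of_mul_eq_one_left bb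
  have hlb : Commute (gen Gen.l) b0 := l_comm_b0
  have hkb : gen Gen.k * gen .b = gen .b * gen .k := (gcomm (by decide)).eq
  have hab : gen Gen.a * gen .b * gen .a = gen .b * gen .a * gen .b := gbraid (by decide)
  have iv : (gen Gen.l * b0)⁻¹ = b0 * gen .l := by
    rw [mul_inv_rev, il]
    congr 1
    show (gen Gen.a * gen .b * gen .a)⁻¹ = _
    rw [mul_inv_rev, mul_inv_rev, ia, ib, ← mul_assoc]
    rfl
  rw [iv, hy]
  have e1 : gen Gen.a * gen .b * b0 = gen .b := by
    show gen Gen.a * gen .b * (gen .a * gen .b * gen .a) = gen .b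
    rw [hab]
    calc gen Gen.a * gen .b * (gen .b * gen .a * gen .b) = gen .a * (gen .b * gen .b) * gen .a * gen .b := by
          simp only [mul_assoc]
      _ = (gen Gen.a * gen .a) * gen .b := by rw [bb, mul_one]
      _ = gen .b := by rw [aa, one_mul]
  calc gen Gen.l * b0 * (gen .l * gen .k * gen .a * gen .b) * (b0 * gen .l)
      = (gen .l * b0 * gen .l) * gen .k * (gen .a * gen .b * b0) * gen .l := by simp only [mul_assoc]
    _ = b0 * gen .k * gen .b * gen .l := by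
        rw [e1, hlb.eq, mul_assoc b0, ll, mul_one]
    _ = (b0 * gen .b) * gen .k * gen .l := by
        rw [mul_assoc b0, hkb]; simp only [mul_assoc]
    _ = gen .b * gen .a * gen .k * gen .l := by
        have e2 : b0 * gen .b = gen .b * gen .a := by
          show gen Gen.a * gen .b * gen .a * gen .b = _
          rw [hab, mul_assoc, bb, mul_one]
        rw [e2]
    _ = (gen Gen.l * gen .k * gen .a * gen .b)⁻¹ := by
        rw [mul_inv_rev, mul_inv_rev, mul_inv_rev, il, ik, ia, ib]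
        simp only [mul_assoc]

theorem ne0 : gen .l ≠ b0 := by
  intro h
  -- otherwise `v0 = 1`
  have h1 := v0_inv
  rw [← h, gen_sq, one_mul, inv_one, mul_one] at h1
  have h2 : y0 ^ 2 = 1 := by
    rw [pow_two]
    nth_rewrite 2 [h1]
    exact mul_inv_cancel _
  have h3 := orderOf_dvd_of_pow_eq_one h2
  rw [orderOf_y0] at h3
  norm_num at h3

theorem v0_comm (σ : Perm (Fin 9)) : Commute (gen .l * b0) (Phi σ) := by
  have h : ∀ x : Gen, x = .l ∨ x = .k ∨ x = .a ∨ x = .b → Commute (gen x) (Phi σ) := fun x hx =>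
    (S9_comm (Phi_mem σ) x hx).symm
  have ha := h .a (by simp)
  have hb := h .b (by simp)
  have hl := h .l (by simp)
  exact hl.mul_left ((ha.mul_left hb).mul_left ha)

/-- an involution of `S₉` inverts an element of order 3 -/
theorem exists_three {π : Perm (Fin 9)} (hπ : π * π = 1) (h1 : π ≠ 1) :
    ∃ σ : Perm (Fin 9), orderOf σ = 3 ∧ π * σ * π⁻¹ = σ⁻¹ := by
  obtain ⟨i, hi⟩ : ∃ i, π i ≠ i := by
    by_contra hcon
    push Not at hcon
    exact h1 (Equiv.ext hcon)
  have hππ : ∀ k, π (π k) = k := fun k => by rw [← Perm.mul_apply, hπ, Perm.one_apply]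
  obtain ⟨k, hk⟩ : ∃ k, π k = k := by
    have : Fact (Nat.Prime 2) := ⟨Nat.prime_two⟩
    by_contra hcon
    push Not at hcon
    have h2 : (π : Fin 9 → Fin 9)^[2 ^ 1] = id := by
      funext k
      exact hππ k
    have h3 := Equiv.Perm.card_fixedPoints_modEq (p := 2) (n := 1) (f := (π : Fin 9 → Fin 9)) h2
    have h4 : Fintype.card (Function.fixedPoints (π : Fin 9 → Fin 9)) = 0 := by
      rw [Fintype.card_eq_zero_iff]
      exact ⟨fun x => hcon x.1 x.2⟩
    rw [h4, Fintype.card_fin] at h3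
    exact absurd h3 (by decide)
  have hki : k ≠ i := fun h => hi (h ▸ hk)
  have hkj : k ≠ π i := fun h => by
    have h2 := hππ i
    rw [← h, hk] at h2
    exact hki h2
  have hipi : i ≠ π i := fun h => hi h.symm
  refine ⟨swap i k * swap (π i) k, ?_, ?_⟩
  · have h3 : Equiv.Perm.IsThreeCycle (swap k i * swap k (π i)) :=
      Equiv.Perm.isThreeCycle_swap_mul_swap_same hki hkj hipi
    have h4 := h3.orderOf
    rwa [swap_comm k i, swap_comm k (π i)] at h4
  · have e1 : ∀ x y : Fin 9, π * swap x y * π⁻¹ = swap (π x) (π y) := by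
      intro x y
      rw [Equiv.mul_swap_eq_swap_mul, mul_inv_cancel_right]
    calc π * (swap i k * swap (π i) k) * π⁻¹ = (π * swap i k * π⁻¹) * (π * swap (π i) k * π⁻¹) := by group
      _ = swap (π i) k * swap i k := by rw [e1, e1, hk, hππ]
      _ = (swap i k * swap (π i) k)⁻¹ := by rw [mul_inv_rev, swap_inv, swap_inv]

/-- `t = a b` inverts an element `X` of order 5, and every involution `w` commuting with `X` and `t` inverts an element
`Y` of order 3 commuting with `X` and `t`. -/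
theorem pair_inverts {a b : Fi24} (P : TetFi24A.At a b) :
    ∃ X ∈ commutator Fi24, Odd (orderOf X) ∧ (a * b) * X * (a * b)⁻¹ = X⁻¹ ∧
      ∀ w : Fi24, w * w = 1 → w ≠ 1 → Commute w X → Commute w (a * b) →
        ∃ Y ∈ commutator Fi24, Y ≠ 1 ∧ Odd (orderOf Y) ∧ Commute (a * b) Y ∧ Commute X Y ∧ w * Y * w⁻¹ = Y⁻¹ := by
  obtain ⟨g, -, g1, g2⟩ := trans2 (gen_mem_L .l) b0_mem P.ha P.hb ne0 l_comm_b0 P.ne P.ab
  have hy0 : y0 ∈ commutator Fi24 := Cfsg.Agent.H843.Fi24N.mem_commutator (by rw [orderOf_y0]; decide)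
  have hv : g * (gen .l * b0) * g⁻¹ = a * b := by rw [← g1, ← g2]; group
  have ho : ∀ x : Fi24, orderOf (g * x * g⁻¹) = orderOf x := by
    intro x
    rw [← MulAut.conj_apply]
    exact orderOf_injective (MulAut.conj g).toMonoidHom (MulAut.conj g).injective x
  have hcj : ∀ {x y : Fi24}, Commute x y → Commute (g * x * g⁻¹) (g * y * g⁻¹) := by
    intro x y h
    show g * x * g⁻¹ * (g * y * g⁻¹) = g * y * g⁻¹ * (g * x * g⁻¹)
    calc g * x * g⁻¹ * (g * y * g⁻¹) = g * (x * y) * g⁻¹ := by group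
      _ = g * (y * x) * g⁻¹ := by rw [h.eq]
      _ = _ := by group
  refine ⟨g * y0 * g⁻¹, (inferInstance : (commutator Fi24).Normal).conj_mem _ hy0 g, ?_, ?_, ?_⟩
  · rw [ho, orderOf_y0]; decide
  · rw [← hv]
    calc g * (gen .l * b0) * g⁻¹ * (g * y0 * g⁻¹) * (g * (gen .l * b0) * g⁻¹)⁻¹
        = g * ((gen .l * b0) * y0 * (gen .l * b0)⁻¹) * g⁻¹ := by group
      _ = (g * y0 * g⁻¹)⁻¹ := by rw [v0_inv]; group
  · intro w hww hw1 hwX hwv
    set w' : Fi24 := g⁻¹ * w * g with hw'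
    have hwg : w = g * w' * g⁻¹ := by rw [hw']; group
    have hback : ∀ {x : Fi24}, Commute w (g * x * g⁻¹) → Commute w' x := by
      intro x h
      show w' * x = x * w'
      calc w' * x = g⁻¹ * (w * (g * x * g⁻¹)) * g := by rw [hw']; group
        _ = g⁻¹ * (g * x * g⁻¹ * w) * g := by rw [h.eq]
        _ = x * w' := by rw [hw']; group
    have c1 : Commute w' y0 := hback hwX
    have c2 : Commute w' (gen .l * b0) := hback (by rw [hv]; exact hwv)
    obtain ⟨i, π, hi, -, hwi⟩ := exists_of_comm c1.eq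
    -- `i = 0`
    have c3 : Commute (y0 ^ i) (gen .l * b0) := by
      have h1 : y0 ^ i = w' * (Phi π)⁻¹ := by rw [hwi]; group
      rw [h1]
      exact c2.mul_left (v0_comm π).symm.inv_left
    have h5 : y0 ^ i = (y0 ^ i)⁻¹ := by
      have h1 : (gen .l * b0) * y0 ^ i * (gen .l * b0)⁻¹ = (y0 ^ i)⁻¹ := by
        rw [← conj_pow, v0_inv, inv_pow]
      rwa [← c3.eq, mul_inv_cancel_right] at h1
    have h6 : y0 ^ (2 * i) = 1 := by
      rw [two_mul, pow_add]
      nth_rewrite 2 [h5]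
      exact mul_inv_cancel _
    have h7 := orderOf_dvd_of_pow_eq_one h6
    rw [orderOf_y0] at h7
    have h8 : i = 0 := by omega
    rw [h8, pow_zero, one_mul] at hwi
    have hππ : π * π = 1 := by
      apply Phi_injective
      rw [map_mul, map_one, ← hwi]
      calc w' * w' = g⁻¹ * (w * w) * g := by rw [hw']; group
        _ = 1 := by rw [hww]; group
    have hπ1 : π ≠ 1 := by
      rintro rfl
      apply hw1
      rw [hwg, hwi, map_one]; group
    obtain ⟨σ, hσ, hinv⟩ := exists_three hππ hπ1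
    have hσ' : orderOf (Phi σ) = 3 := by rw [orderOf_injective Phi Phi_injective, hσ]
    have hK : Phi σ ∈ commutator Fi24 := Cfsg.Agent.H843.Fi24N.mem_commutator (by rw [hσ']; decide)
    refine ⟨g * Phi σ * g⁻¹, (inferInstance : (commutator Fi24).Normal).conj_mem _ hK g, ?_, ?_, ?_, ?_, ?_⟩
    · intro h1
      have h2 : orderOf (g * Phi σ * g⁻¹) = 3 := by rw [ho, hσ']
      rw [h1, orderOf_one] at h2
      omega
    · rw [ho, hσ']; decide
    · rw [← hv]
      exact hcj (v0_comm σ)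
    · exact hcj (Phi_comm_y0 σ).symm
    · rw [hwg, hwi]
      calc g * Phi π * g⁻¹ * (g * Phi σ * g⁻¹) * (g * Phi π * g⁻¹)⁻¹ = g * (Phi π * Phi σ * (Phi π)⁻¹) * g⁻¹ := by group
        _ = g * (Phi σ)⁻¹ * g⁻¹ := by rw [← map_inv, ← map_mul, ← map_mul, hinv, map_inv]
        _ = (g * Phi σ * g⁻¹)⁻¹ := by group

end Five

/-! ### The row -/

/-- The embedding of `G` into `Fi24`. -/
theorem exists_emb {G : Type u} [Group G] [Finite G] {V K : Subgroup G} (h : Cx V K) (e : K ≃* Spor.Fi24') :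
    ∃ ρ : G →* Fi24, Function.Injective ρ ∧ ∀ y ∈ commutator Fi24, ∃ x : G, ρ x = y := by
  haveI := h.norm
  let c : Fi24 ≃* MulAut (commutator Fi24) := MulEquiv.ofBijective (MulAut.conjNormal : Fi24 →* MulAut (commutator Fi24))
    ⟨Cfsg.Agent.H819.CubeFi24.conj_injective, Cfsg.Agent.H819.CubeFi24.conj_surjective⟩
  let ρ : G →* Fi24 := c.symm.toMonoidHom.comp ((MulAut.congr e).toMonoidHom.comp (MulAut.conjNormal (H := K)))
  refine ⟨ρ, ?_, ?_⟩
  · rw [injective_iff_map_eq_one]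
    intro g hg
    have h1 : MulAut.congr e (MulAut.conjNormal (H := K) g) = 1 := c.symm.injective (by rw [map_one]; exact hg)
    have h2 : MulAut.conjNormal (H := K) g = 1 := (MulAut.congr e).injective (by rw [map_one]; exact h1)
    apply h.eq_one_of_comm
    intro k hk
    have h3 := congrArg (fun f : MulAut K => ((f ⟨k, hk⟩ : K) : G)) h2
    simp only [MulAut.conjNormal_apply, MulAut.one_apply] at h3
    exact mul_inv_eq_iff_eq_mul.1 h3
  · intro y hy
    refine ⟨(e.symm ⟨y, hy⟩ : K), ?_⟩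
    show c.symm (MulAut.congr e (MulAut.conjNormal (H := K) _)) = y
    rw [MulEquiv.symm_apply_eq]
    apply MulEquiv.ext
    intro k
    apply Subtype.ext
    show ((e (MulAut.conjNormal (H := K) ((e.symm ⟨y, hy⟩ : K) : G) (e.symm k)) : commutator Fi24) : Fi24) = _
    have h1 : MulAut.conjNormal (H := K) ((e.symm ⟨y, hy⟩ : K) : G) (e.symm k) =
        e.symm ⟨y, hy⟩ * e.symm k * (e.symm ⟨y, hy⟩)⁻¹ := Subtype.ext (MulAut.conjNormal_apply _ _)
    rw [h1, map_mul, map_mul, map_inv, MulEquiv.apply_symm_apply, MulEquiv.apply_symm_apply]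
    show _ = ((MulAut.conjNormal (H := commutator Fi24) y k : commutator Fi24) : Fi24)
    rw [MulAut.conjNormal_apply]
    rfl

/-- **The row `Fi24'`.** -/
theorem dead : DeadS.{u} (fun K _ => Cfsg.Spor.IsoFi24' K) := by
  intro G _ _ V K h hK
  obtain ⟨e⟩ := hK
  obtain ⟨ρ, hρ, hsurj⟩ := exists_emb h e
  -- `V ∩ Fi24' ≠ 1`
  obtain ⟨v, hv, hv1, hvK⟩ : ∃ v ∈ V, v ≠ 1 ∧ ρ v ∈ commutator Fi24 := by
    by_contra hcon
    push Not at hcon
    have h2 : Nat.card V ≤ 2 := by
      by_contra hlt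
      push Not at hlt
      have h3 : 2 < (Set.univ : Set V).ncard := by rwa [Set.ncard_univ]
      obtain ⟨a, b, c, -, -, -, hab, hac, hbc⟩ := (Set.two_lt_ncard_iff (Set.toFinite _)).1 h3
      -- two nontrivial different elements
      have key : ∀ x y : V, x ≠ 1 → y ≠ 1 → x = y := by
        intro x y hx hy
        by_contra hxy
        have hx1 := hcon x x.2 (fun h0 => hx (Subtype.ext h0))
        have hy1 := hcon y y.2 (fun h0 => hy (Subtype.ext h0))
        have hxy1 : ρ ((x : G) * y) ∈ commutator Fi24 := by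
          rw [map_mul, Subgroup.mul_mem_iff_of_index_two index_commutator]
          tauto
        refine hcon _ (V.mul_mem x.2 y.2) ?_ hxy1
        intro h0
        apply hxy
        apply Subtype.ext
        rw [eq_inv_of_mul_eq_one_left h0, h.inv_eq y.2]
      rcases eq_or_ne a 1 with rfl | ha
      · exact hbc (key b c (Ne.symm hab) (Ne.symm hac))
      · rcases eq_or_ne b 1 with rfl | hb
        · exact hac (key a c ha (Ne.symm hbc))
        · exact hab (key a b ha hb)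
    have := h.card
    omega
  have hvv : ρ v * ρ v = 1 := by rw [← map_mul, h.sq hv, map_one]
  have hρv1 : ρ v ≠ 1 := fun h0 => hv1 (hρ (by rw [h0, map_one]))
  have hord : orderOf (⟨ρ v, hvK⟩ : Spor.Fi24') = 2 :=
    orderOf_eq_prime (by rw [pow_two]; exact Subtype.ext hvv) (fun h0 => hρv1 (congrArg Subtype.val h0))
  rcases CTwoTab.FiTF.classes _ hord with ⟨a, b, P, hab⟩ | hz
  · have hab : ρ v = a * b := hab
    obtain ⟨X, hX, hXo, hXi, hXw⟩ := pair_inverts P
    obtain ⟨x, rfl⟩ := hsurj X hX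
    obtain ⟨w, hw, hw1, hwx, hwO⟩ := t1_of ρ hρ h hv hv1 hXo (by rw [hab]; exact hXi)
    have hww : ρ w * ρ w = 1 := by rw [← map_mul, h.sq hw, map_one]
    have hρw1 : ρ w ≠ 1 := fun h0 => hw1 (hρ (by rw [h0, map_one]))
    have hwv : Commute (ρ w) (a * b) := by rw [← hab]; exact (h.comm hw hv).map ρ
    obtain ⟨Y, hY, hY1, hYo, c1, c2, hYi⟩ := hXw (ρ w) hww hρw1 hwx hwv
    obtain ⟨y, rfl⟩ := hsurj Y hY
    exact hY1 (hwO y hYo (by rw [hab]; exact c1) c2 hYi)
  · obtain ⟨X, hX, hXo, hXi, hXw⟩ := z0_inverts hz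
    obtain ⟨x, rfl⟩ := hsurj X hX
    obtain ⟨w, hw, hw1, hwx⟩ := t0_of ρ hρ h hv hXo hXi
    have hww : ρ w * ρ w = 1 := by rw [← map_mul, h.sq hw, map_one]
    exact hw1 (hρ (by rw [hXw _ hww hwx, map_one]))

end Cfsg.Agent.H955.SK.Fi24
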